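import Mathlib

/-!
# A finite free local algebra receiving finitely many points
-/

universe u

set_option linter.style.haveILetI false

open TensorProduct

namespace Groth.Agent.RatPts20

variable {A : Type u} [CommRing A] {R₀ : Type u} [CommRing R₀] [Algebra A R₀] {K : Type u} [Field K] [Algebra A K]

/-- A finite algebra has only finitely many points in a field. -/
theorem finite_algHom [Module.Finite A R₀] : Finite (R₀ →ₐ[A] K) := by
  classical
  obtain ⟨T, hT⟩ := (Module.Finite.fg_top (R := A) (M := R₀))
  choose p hmon hp using fun b : R₀ => (Algebra.IsIntegral.isIntegral (R := A) b)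
  let f : (R₀ →ₐ[A] K) → ∀ b : T, ((p b.1).map (algebraMap A K)).roots.toFinset := fun σ b =>
    ⟨σ b.1, by
      rw [Multiset.mem_toFinset, Polynomial.mem_roots ((hmon b.1).map _).ne_zero, Polynomial.IsRoot,
        Polynomial.eval_map, ← Polynomial.aeval_def, Polynomial.aeval_algHom_apply,
        Polynomial.aeval_def, hp, map_zero]⟩
  refine Finite.of_injective f fun σ τ h => ?_
  have h1 : σ.toLinearMap = τ.toLinearMap := by
    refine LinearMap.ext_on hT fun b hb => ?_
    exact congrArg Subtype.val (congrFun h ⟨b, hb⟩)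
  exact AlgHom.toLinearMap_injective h1

/-- Finitely many points lift simultaneously to a finite flat algebra. -/
theorem exists_lift_list [Module.Finite A R₀] [Module.Flat A R₀] (l : List (R₀ →ₐ[A] K)) :
    ∃ (R : Type u) (_ : CommRing R) (_ : Algebra A R) (_ : Module.Finite A R) (_ : Module.Flat A R)
      (ψ : R →ₐ[A] K), ∀ σ ∈ l, ∃ φ : R₀ →ₐ[A] R, ψ.comp φ = σ := by
  induction l with
  | nil => exact ⟨A, inferInstance, inferInstance, inferInstance, inferInstance, Algebra.ofId A K, fun σ h => by simp at h⟩
  | cons σ l ih =>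
    obtain ⟨R, _, _, _, _, ψ, h⟩ := ih
    refine ⟨R ⊗[A] R₀, inferInstance, inferInstance, inferInstance, inferInstance,
      Algebra.TensorProduct.lift ψ σ (fun _ _ => .all _ _), fun τ hτ => ?_⟩
    rcases List.mem_cons.1 hτ with rfl | hτ
    · exact ⟨Algebra.TensorProduct.includeRight, AlgHom.ext fun r => by simp⟩
    · obtain ⟨φ, hφ⟩ := h τ hτ
      refine ⟨Algebra.TensorProduct.includeLeft.comp φ, AlgHom.ext fun r => ?_⟩
      simpa using congrArg (fun m => m r) hφ

/-- All points lift to a finite free local algebra. -/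
theorem exists_local_lift [IsArtinianRing A] [IsLocalRing A] [Module.Finite A R₀] [Module.Flat A R₀] :
    ∃ (A' : Type u) (_ : CommRing A') (_ : IsLocalRing A') (_ : Algebra A A') (_ : Module.Finite A A')
      (_ : Module.Free A A') (ψ : A' →ₐ[A] K), ∀ σ : R₀ →ₐ[A] K, ∃ φ : R₀ →ₐ[A] A', ψ.comp φ = σ := by
  classical
  haveI := finite_algHom (A := A) (R₀ := R₀) (K := K)
  haveI := Fintype.ofFinite (R₀ →ₐ[A] K)
  obtain ⟨R, _, _, _, _, ψ, h⟩ := exists_lift_list (A := A) (Finset.univ : Finset (R₀ →ₐ[A] K)).toList
  let P : Ideal R := RingHom.ker ψ.toRingHom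
  haveI : P.IsPrime := RingHom.ker_isPrime _
  haveI : IsArtinianRing R := IsArtinianRing.of_finite A R
  let A' := Localization.AtPrime P
  have hunit : ∀ y : P.primeCompl, IsUnit (ψ y.1) := fun y => IsUnit.mk0 _ fun h0 => y.2 h0
  haveI : Module.Finite A A' := Module.Finite.of_surjective (IsScalarTower.toAlgHom A R A').toLinearMap
    (IsArtinianRing.localization_surjective P.primeCompl A')
  haveI : Module.Flat A A' := Module.Flat.trans A R A'
  haveI : Module.Free A A' := Module.free_of_flat_of_isLocalRing
  refine ⟨A', inferInstance, inferInstance, inferInstance, inferInstance, inferInstance,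
    IsLocalization.liftAlgHom (M := P.primeCompl) (f := ψ) hunit, fun σ => ?_⟩
  obtain ⟨φ, hφ⟩ := h σ (by simp)
  refine ⟨(IsScalarTower.toAlgHom A R A').comp φ, AlgHom.ext fun r => ?_⟩
  show IsLocalization.liftAlgHom (M := P.primeCompl) (f := ψ) hunit (algebraMap R A' (φ r)) = σ r
  rw [← hφ]
  exact IsLocalization.lift_eq (M := P.primeCompl) _ _

end Groth.Agent.RatPts20
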