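import Groth.Agent.Lib.RatPts20.Algebra
import Groth.Agent.Lib.CMSlice4.Main
import Groth.Agent.Lib.GrpCM20.Basic
import Groth.Agent.Lib.VarDim.Irred
import Groth.Agent.Lib.AlgSpDecent.FiniteMin

/-!
# Making a closed point of a group scheme over an artinian ring strictly rational
-/

universe u

set_option linter.style.haveILetI false
set_option backward.isDefEq.respectTransparency.types false

open CategoryTheory CategoryTheory.Limits MonoidalCategory CartesianMonoidalCategory MonObj GrpObj
open AlgebraicGeometry Topology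

namespace Groth.Agent.RatPts20

variable (A : Type u) [CommRing A] [IsArtinianRing A] [IsLocalRing A]

instance : Subsingleton ↥(Spec (CommRingCat.of A)) :=
  ⟨fun p q => PrimeSpectrum.ext (((IsLocalRing.eq_maximalIdeal (I := p.asIdeal) inferInstance)).trans
    (IsLocalRing.eq_maximalIdeal (I := q.asIdeal) inferInstance).symm)⟩

/-- A finite flat slice through a closed point. -/
theorem exists_slice_algebra (G : Over (Spec (CommRingCat.of A))) [GrpObj G] [Flat G.hom]
    [LocallyOfFiniteType G.hom] {x : G.left} (hx : IsClosed ({x} : Set G.left)) :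
    ∃ (R₀ : Type u) (_ : CommRing R₀) (_ : Algebra A R₀) (_ : Module.Finite A R₀) (_ : Module.Flat A R₀)
      (j : Spec (CommRingCat.of R₀) ⟶ G.left), IsPreimmersion j ∧
      j ≫ G.hom = Spec.map (CommRingCat.ofHom (algebraMap A R₀)) ∧
      (∀ r, j r = x) ∧ ∃ r : ↥(Spec (CommRingCat.of R₀)), j r = x := by
  let S := Spec (CommRingCat.of A)
  haveI : IsLocallyNoetherian S := inferInstance
  haveI : LocallyOfFinitePresentation G.hom := VarDim.locallyOfFinitePresentation_of_locallyNoetherian G.hom
  have hcm : MoreMor.IsCMAt G.hom x := by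
    refine ⟨Flat.stalkMap G.hom x, ?_⟩
    let s := G.hom x
    letI hgrp : GrpObj ((Over.pullback (S.fromSpecResidueField s)).obj G) := Functor.grpObjObj
    haveI : LocallyOfFiniteType ((Over.pullback (S.fromSpecResidueField s)).obj G).hom :=
      inferInstanceAs (LocallyOfFiniteType (pullback.snd G.hom (S.fromSpecResidueField s)))
    exact @GrpCM20.isCM (S.residueField s) _ ((Over.pullback (S.fromSpecResidueField s)).obj G) hgrp
      (inferInstanceAs (LocallyOfFiniteType (pullback.snd G.hom (S.fromSpecResidueField s)))) (G.hom.asFiber x)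
  have hcl : IsClosed ({G.hom.asFiber x} : Set ↑(G.hom.fiber (G.hom x))) := by
    have h1 : ({G.hom.asFiber x} : Set ↑(G.hom.fiber (G.hom x))) = G.hom.fiberι (G.hom x) ⁻¹' {x} := by
      ext t
      simp only [Set.mem_singleton_iff, Set.mem_preimage]
      exact ⟨fun h => h ▸ G.hom.fiberι_asFiber x,
        fun h => (G.hom.fiberι (G.hom x)).isEmbedding.injective (h.trans (G.hom.fiberι_asFiber x).symm)⟩
    rw [h1]
    exact hx.preimage (G.hom.fiberι (G.hom x)).continuous
  obtain ⟨V, Z, i, hZ, -, hi, ⟨r, hr⟩, hflat, -, hlqf, hall⟩ := CMSlice4.exists_slice G.hom x hcm hcl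
  haveI := hi.1
  let j : Spec Γ(Z, ⊤) ⟶ G.left := Z.isoSpec.inv ≫ i ≫ V.ι
  let φ := Spec.preimage (j ≫ G.hom)
  have hφ : Spec.map φ = j ≫ G.hom := Spec.map_preimage _
  letI : Algebra A Γ(Z, ⊤) := φ.hom.toAlgebra
  haveI : Flat (Spec.map φ) := by
    rw [hφ]; show Flat (Z.isoSpec.inv ≫ i ≫ V.ι ≫ G.hom); infer_instance
  haveI : LocallyQuasiFinite (Spec.map φ) := by
    rw [hφ]; show LocallyQuasiFinite (Z.isoSpec.inv ≫ i ≫ V.ι ≫ G.hom); infer_instance
  haveI : Algebra.QuasiFinite A Γ(Z, ⊤) :=
    (HasRingHomProperty.Spec_iff (P := @LocallyQuasiFinite)).1 ‹LocallyQuasiFinite (Spec.map φ)›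
  haveI : LocallyOfFiniteType (Spec.map φ) := by
    rw [hφ]; show LocallyOfFiniteType (Z.isoSpec.inv ≫ i ≫ V.ι ≫ G.hom); infer_instance
  haveI : Algebra.FiniteType A Γ(Z, ⊤) :=
    (HasRingHomProperty.Spec_iff (P := @LocallyOfFiniteType)).1 ‹LocallyOfFiniteType (Spec.map φ)›
  haveI : Module.Finite A Γ(Z, ⊤) := Module.Finite.of_quasiFinite
  haveI : Module.Flat A Γ(Z, ⊤) := (HasRingHomProperty.Spec_iff (P := @Flat)).1 ‹Flat (Spec.map φ)›
  refine ⟨Γ(Z, ⊤), inferInstance, inferInstance, inferInstance, inferInstance, j, inferInstance, ?_, fun z => ?_,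
    Z.isoSpec.hom r, ?_⟩
  · exact hφ.symm
  · exact hall _ (Subsingleton.elim _ _)
  · show (Z.isoSpec.inv ≫ i ≫ V.ι) (Z.isoSpec.hom r) = x
    rw [← Scheme.Hom.comp_apply, Iso.hom_inv_id_assoc]
    exact hr

/-- A closed point becomes strictly rational after a finite free local extension. -/
theorem exists_strictly_rational (G : Over (Spec (CommRingCat.of A))) [GrpObj G] [Flat G.hom]
    [LocallyOfFiniteType G.hom] {x : G.left} (hx : IsClosed ({x} : Set G.left)) :
    ∃ (A' : Type u) (_ : CommRing A') (_ : IsLocalRing A') (_ : Algebra A A') (_ : Module.Finite A A') (_ : Module.Free A A'),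
      ∀ x' : ↥(pullback G.hom (Spec.map (CommRingCat.ofHom (algebraMap A A')))),
        (pullback.fst G.hom (Spec.map (CommRingCat.ofHom (algebraMap A A')))) x' = x →
        ∃ s : Spec (CommRingCat.of A') ⟶ pullback G.hom (Spec.map (CommRingCat.ofHom (algebraMap A A'))),
          s ≫ pullback.snd G.hom (Spec.map (CommRingCat.ofHom (algebraMap A A'))) = 𝟙 _ ∧ x' ∈ Set.range s := by
  obtain ⟨R₀, _, _, _, _, j, hj, hjA, hjx, r₀, hr₀⟩ := exists_slice_algebra A G hx
  let K := AlgebraicClosure (IsLocalRing.ResidueField A)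
  obtain ⟨A', _, _, _, _, _, ψ, hψ⟩ := exists_local_lift (A := A) (R₀ := R₀) (K := K)
  refine ⟨A', inferInstance, inferInstance, inferInstance, inferInstance, inferInstance, fun x' hx' => ?_⟩
  let a := Spec.map (CommRingCat.ofHom (algebraMap A A'))
  let P := pullback G.hom a
  let c : Spec (CommRingCat.of K) ⟶ Spec (CommRingCat.of A') := Spec.map (CommRingCat.ofHom ψ.toRingHom)
  haveI : IsArtinianRing A' := IsArtinianRing.of_finite A A'
  haveI : Subsingleton ↥(Spec (CommRingCat.of A')) :=
    ⟨fun p q => PrimeSpectrum.ext (((IsLocalRing.eq_maximalIdeal (I := p.asIdeal) inferInstance)).trans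
      (IsLocalRing.eq_maximalIdeal (I := q.asIdeal) inferInstance).symm)⟩
  haveI : IsFinite a := (IsFinite.SpecMap_iff _).2 (RingHom.finite_algebraMap.2 inferInstance)
  haveI : IsFinite (pullback.fst G.hom a) := MorphismProperty.pullback_fst _ _ inferInstance
  haveI : LocallyOfFiniteType (pullback.snd G.hom a) := MorphismProperty.pullback_snd _ _ inferInstance
  let π := pullback.snd (pullback.snd G.hom a) c
  haveI : LocallyOfFiniteType π := MorphismProperty.pullback_snd _ _ inferInstance
  haveI : JacobsonSpace ↥(pullback (pullback.snd G.hom a) c) := LocallyOfFiniteType.jacobsonSpace π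
  obtain ⟨p, hp, -⟩ := Scheme.Pullback.exists_preimage_pullback (f := pullback.snd G.hom a) (g := c) x'
    (IsLocalRing.closedPoint K) (Subsingleton.elim _ _)
  obtain ⟨p', hp', hp'c⟩ := nonempty_inter_closedPoints
    (Z := closure ({p} : Set ↥(pullback (pullback.snd G.hom a) c))) ⟨p, subset_closure rfl⟩
    isClosed_closure.isLocallyClosed
  have hsp : x' ⤳ pullback.fst (pullback.snd G.hom a) c p' :=
    hp ▸ (specializes_iff_mem_closure.2 hp').map (pullback.fst (pullback.snd G.hom a) c).continuous
  have hx'' : pullback.fst (pullback.snd G.hom a) c p' = x' := by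
    have h1 := hx' ▸ hsp.map (pullback.fst G.hom a).continuous
    have h2 : pullback.fst G.hom a (pullback.fst (pullback.snd G.hom a) c p') = x := h1.mem_closed hx rfl
    exact (AlgSpDecent.eq_of_specializes_of_isIntegralHom (pullback.fst G.hom a) hsp (hx'.trans h2.symm)).symm
  let k := pointOfClosedPoint π p' hp'c
  let q : Spec (CommRingCat.of K) ⟶ P := k ≫ pullback.fst (pullback.snd G.hom a) c
  have hq : q ≫ pullback.snd G.hom a = c := by
    simp only [q, Category.assoc, pullback.condition]
    rw [← Category.assoc, show k ≫ π = 𝟙 _ from pointOfClosedPoint_comp π p' hp'c, Category.id_comp]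
  have hqx : ∀ t, q t = x' := fun t => by
    show (k ≫ pullback.fst (pullback.snd G.hom a) c) t = x'
    rw [Scheme.Hom.comp_apply, show k t = p' from pointOfClosedPoint_apply π p' hp'c t, hx'']
  let q₀ := q ≫ pullback.fst G.hom a
  obtain ⟨w, -, -⟩ := Scheme.Pullback.exists_preimage_pullback (f := j) (g := q₀) r₀ (IsLocalRing.closedPoint K)
    (by rw [hr₀, Scheme.Hom.comp_apply, hqx, hx'])
  haveI : IsPreimmersion (pullback.snd j q₀) := MorphismProperty.pullback_snd _ _ inferInstance
  have hrange : Set.range (pullback.snd j q₀) = Set.univ :=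
    Set.eq_univ_of_forall fun t => ⟨w, @Subsingleton.elim _ (inferInstanceAs (Subsingleton (PrimeSpectrum K))) _ t⟩
  haveI : Surjective (pullback.snd j q₀) := ⟨Set.range_eq_univ.1 hrange⟩
  haveI : IsClosedImmersion (pullback.snd j q₀) := .of_isPreimmersion _ (by rw [hrange]; exact isClosed_univ)
  haveI : IsIso (pullback.snd j q₀) := isIso_of_isClosedImmersion_of_surjective _
  let e := inv (pullback.snd j q₀) ≫ pullback.fst j q₀
  have he : e ≫ j = q₀ := by simp [e, pullback.condition]
  let σr := Spec.preimage e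
  have hσ : CommRingCat.ofHom (algebraMap A R₀) ≫ σr = CommRingCat.ofHom (algebraMap A K) := by
    apply Spec.map_injective
    rw [Spec.map_comp, Spec.map_preimage, ← hjA, ← Category.assoc, he]
    simp only [q₀, Category.assoc, pullback.condition]
    rw [← Category.assoc, hq, ← Spec.map_comp]
    exact congrArg Spec.map (CommRingCat.hom_ext ψ.comp_algebraMap)
  let σ : R₀ →ₐ[A] K := { σr.hom with commutes' := fun r => congr($(hσ).hom r) }
  obtain ⟨φ, hφ⟩ := hψ σ
  let s : Spec (CommRingCat.of A') ⟶ P := pullback.lift (Spec.map (CommRingCat.ofHom φ.toRingHom) ≫ j) (𝟙 _) (by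
    rw [Category.assoc, hjA, ← Spec.map_comp, Category.id_comp]
    exact congrArg Spec.map (CommRingCat.hom_ext φ.comp_algebraMap))
  refine ⟨s, pullback.lift_snd _ _ _, c (IsLocalRing.closedPoint K), ?_⟩
  have hcs : c ≫ s = q := by
    apply pullback.hom_ext
    · rw [Category.assoc, pullback.lift_fst, ← Category.assoc]
      show _ = q₀
      rw [← he, show c ≫ Spec.map (CommRingCat.ofHom φ.toRingHom) = e from ?_]
      rw [← Spec.map_comp, ← Spec.map_preimage e]
      exact congrArg Spec.map (CommRingCat.hom_ext (RingHom.ext fun r => congr($(hφ) r)))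
    · rw [Category.assoc, pullback.lift_snd, Category.comp_id, hq]
  rw [← Scheme.Hom.comp_apply, hcs, hqx]

end Groth.Agent.RatPts20
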